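import Groth.Prelude.Def_PCone
import Groth.Agent.ProjLib.DomMap

/-! `PCone.dom` and `RelCone.domOpen` agree. -/

set_option autoImplicit false

namespace Groth.Agent.PConeLib

open CategoryTheory CategoryTheory.Limits AlgebraicGeometry TopologicalSpace
open HomogeneousLocalization

universe u

variable {R A B : Type u} [CommRing R] [CommRing A] [Algebra R A] {𝒜 : ℕ → Submodule R A} [GradedAlgebra 𝒜]
  [CommRing B] [Algebra R B] {ℬ : ℕ → Submodule R B} [GradedAlgebra ℬ] (φ : 𝒜 →+*ᵍ ℬ)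

theorem dom_eq : PCone.dom φ = RelCone.domOpen φ := by
  ext x
  constructor
  · intro hx
    obtain ⟨⟨f, d, hd, hf⟩, hfx⟩ := Opens.mem_iSup.mp hx
    exact (RelCone.mem_domOpen φ x).mpr ⟨f, ProjLib.mem_irrelevant_of_pos 𝒜 hd hf, hfx⟩
  · intro hx
    obtain ⟨d, hd, f, hf, hfx⟩ := ProjLib.exists_homogeneous_notMem φ hx
    exact Opens.mem_iSup.mpr ⟨⟨f, d, hd, hf⟩, hfx⟩

/-- The identification of the two opens. -/
noncomputable def domEquiv : (PCone.dom φ : Scheme.{u}) ≅ (RelCone.domOpen φ).toScheme :=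
  (Proj ℬ).isoOfEq (dom_eq φ)

theorem domEquiv_hom_ι : (domEquiv φ).hom ≫ (RelCone.domOpen φ).ι = (PCone.dom φ).ι :=
  Scheme.isoOfEq_hom_ι _ _

theorem chart_domEquiv {d : ℕ} {f : A} (hf : f ∈ 𝒜 d) (hd : 0 < d) :
    PCone.chart φ hf hd ≫ (domEquiv φ).hom = ProjLib.domChart φ hd hf _ rfl := by
  rw [← cancel_mono (RelCone.domOpen φ).ι, Category.assoc, domEquiv_hom_ι, ProjLib.domChart_ι]
  exact IsOpenImmersion.lift_fac _ _ _

/-- The retraction on `PCone.dom`. -/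
noncomputable def map : (PCone.dom φ : Scheme.{u}) ⟶ Proj 𝒜 :=
  (domEquiv φ).hom ≫ ProjLib.domMap φ

theorem chart_map (d : ℕ) (f : A) (hd : 0 < d) (hf : f ∈ 𝒜 d) :
    PCone.chart φ hf hd ≫ map φ =
      Spec.map (CommRingCat.ofHom (Away.map φ f)) ≫ Proj.awayι 𝒜 f hf hd := by
  rw [map, reassoc_of% (chart_domEquiv φ hf hd), ProjLib.domChart_domMap, ProjLib.awayMapTo_rfl]

theorem eq_map (p : (PCone.dom φ : Scheme.{u}) ⟶ Proj 𝒜)
    (hp : ∀ (d : ℕ) (f : A) (hd : 0 < d) (hf : f ∈ 𝒜 d),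
        PCone.chart φ hf hd ≫ p =
          Spec.map (CommRingCat.ofHom (Away.map φ f)) ≫ Proj.awayι 𝒜 f hf hd) : p = map φ := by
  rw [← cancel_epi (domEquiv φ).inv]
  refine ProjLib.domMap_ext φ fun d hd f hf ↦ ?_
  rw [← chart_domEquiv φ hf hd, Category.assoc, Category.assoc, Iso.hom_inv_id_assoc,
    Iso.hom_inv_id_assoc, hp d f hd hf, chart_map φ d f hd hf]

end Groth.Agent.PConeLib
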